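import Groth.Agent.RelCurveCoh.Smooth
import Groth.Agent.GeomField.GlobalFunctions
import Groth.Agent.S1530
import Groth.Agent.S1628
import Groth.Agent.S9776
import Groth.Agent.S12128
import Groth.Agent.DescLib.Reduced

/-!
# Ampleness of the differentials of curves of genus at least two
-/

noncomputable section

set_option autoImplicit false
set_option linter.style.haveILetI false
set_option linter.unusedSectionVars false
set_option backward.isDefEq.respectTransparency false
set_option backward.isDefEq.respectTransparency.types false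
set_option maxRecDepth 4000
set_option maxHeartbeats 1000000

universe u

open CategoryTheory CategoryTheory.Limits AlgebraicGeometry TopologicalSpace Opposite

namespace Groth.Agent.RelCurveCoh

/-- Smoothness cancels on the right against an étale morphism. -/
theorem smooth_of_comp {X Y Z : Scheme.{u}} (t : X ⟶ Y) (s : Y ⟶ Z) [Smooth (t ≫ s)] [Etale s] : Smooth t := by
  haveI : MorphismProperty.IsMultiplicative @Smooth.{u} := { id_mem := fun _ => inferInstance }
  haveI : MorphismProperty.HasOfPostcompProperty @Smooth.{u} @Etale.{u} := by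
    rw [MorphismProperty.hasOfPostcompProperty_iff_le_diagonal]
    intro X Y f hf
    haveI := hf
    exact inferInstanceAs (Smooth (pullback.diagonal f))
  exact MorphismProperty.of_postcomp @Smooth.{u} (W' := @Etale.{u}) t s inferInstance inferInstance

/-- A smooth proper curve with more first cohomology than functions has ample differentials, when its
functions are a separable extension of the base field. -/
theorem isAmple_omega_of_field (k L : Type u) [Field k] [Field L] [Algebra k L] [Algebra.Etale k L] {Z : Scheme.{u}}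
    [Z.Over (Spec (CommRingCat.of k))] [Z.Over (Spec (CommRingCat.of L))] [IsIntegral Z]
    (hc : (Z ↘ Spec (CommRingCat.of L)) ≫ Spec.map (CommRingCat.ofHom (algebraMap k L)) = Z ↘ Spec (CommRingCat.of k))
    [IsProper (Z ↘ Spec (CommRingCat.of k))] [Smooth (Z ↘ Spec (CommRingCat.of k))]
    (h0 : Module.finrank L (Coh.HH Z (Coh.structureModule Z) 0) = 1) (hdim : topologicalKrullDim Z = 1)
    (hg : Module.finrank k (Coh.HH Z (Coh.structureModule Z) 0) < Curv2.genus k Z) :
    CohB1.IsAmple (Omega.sheaf (Z ↘ Spec (CommRingCat.of k))) := by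
  let s : Spec (CommRingCat.of L) ⟶ Spec (CommRingCat.of k) := Spec.map (CommRingCat.ofHom (algebraMap k L))
  let t := Z ↘ Spec (CommRingCat.of L)
  haveI : Etale s := (HasRingHomProperty.Spec_iff (P := @Etale)).2 (RingHom.etale_algebraMap.2 inferInstance)
  haveI : IsProper (t ≫ s) := by
    rw [show t ≫ s = Z ↘ Spec (CommRingCat.of k) from hc]
    infer_instance
  haveI : Smooth (t ≫ s) := by
    rw [show t ≫ s = Z ↘ Spec (CommRingCat.of k) from hc]
    infer_instance
  haveI : IsProper t := IsProper.of_comp t s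
  haveI : Smooth t := smooth_of_comp t s
  have hsm : ∀ (c : k) (M : Z.Modules) (i : ℕ) (x : Coh.HH Z M i), c • x = algebraMap k L c • x := by
    intro c M i x
    show Coh.toGlobal (Z ↘ Spec (CommRingCat.of k)) c • x = Coh.toGlobal t (algebraMap k L c) • x
    congr 1
    show (Z ↘ Spec (CommRingCat.of k)).appTop ((Scheme.ΓSpecIso (CommRingCat.of k)).inv c) =
      t.appTop ((Scheme.ΓSpecIso (CommRingCat.of L)).inv (algebraMap k L c))
    rw [← hc, Scheme.Hom.comp_appTop, CommRingCat.comp_apply]
    exact congrArg t.appTop (ConcreteCategory.congr_hom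
      (Scheme.ΓSpecIso_inv_naturality (CommRingCat.ofHom (algebraMap k L))) c).symm
  have hrank : ∀ i : ℕ, Module.finrank k (Coh.HH Z (Coh.structureModule Z) i) =
      Module.finrank k L * Module.finrank L (Coh.HH Z (Coh.structureModule Z) i) := fun i => by
    haveI : IsScalarTower k L (Coh.HH Z (Coh.structureModule Z) i) :=
      ⟨fun c l x => by rw [hsm c _ i (l • x), smul_smul, Algebra.smul_def]⟩
    exact (Module.finrank_mul_finrank k L _).symm
  have hΩ := CurveBC.isInvertible_omega L Z hdim h0
  have hgL : 2 ≤ Curv2.genus L Z := by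
    have h1 := hg
    change _ < Module.finrank k (Coh.HH Z (Coh.structureModule Z) 1) at h1
    rw [hrank 0, hrank 1, h0] at h1
    exact Nat.lt_of_mul_lt_mul_left h1
  have hamp : CohB1.IsAmple (Omega.sheaf t) := by
    refine (S1530.result L Z hdim _ hΩ).2 ?_
    rw [(CurveBC.canonical_invariants L Z hdim h0).2]
    omega
  obtain ⟨c, hc', -⟩ := S9370.result (Z ↘ Spec (CommRingCat.of k)) t (𝟙 Z) s
    (show t ≫ s = 𝟙 Z ≫ _ by rw [Category.id_comp]; exact hc) _ _ (OmegaUniv.isUniversal_dOmega _) _ _
    (OmegaUniv.isUniversal_dOmega _)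
  haveI := S9776.result (Z ↘ Spec (CommRingCat.of k)) t (𝟙 Z) s (by rw [Category.id_comp]; exact hc.symm) _ _
    (OmegaUniv.isUniversal_dOmega (Z ↘ Spec (CommRingCat.of k))) _ _ (OmegaUniv.isUniversal_dOmega t) c hc'
  exact AmpleX.isAmple_of_iso (((Scheme.Modules.pullbackId Z).app _).symm ≪≫ asIso c).symm hamp

/-- A smooth morphism whose fibres are integral curves has relative dimension one. -/
theorem smoothOfRelativeDimension_of_integral_fibres {X Y : Scheme.{u}} (g : X ⟶ Y) [IsProper g] [Smooth g]
    (hint : ∀ y : Y, IsIntegral (g.fiber y)) (hdim : ∀ y : Y, topologicalKrullDim ↥(g.fiber y) = 1) :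
    SmoothOfRelativeDimension 1 g := by
  refine ⟨fun x => ?_⟩
  obtain ⟨U, hU, V, hV, hxV, e, hs⟩ := Smooth.exists_isStandardSmooth g x
  obtain ⟨m, hm⟩ : ∃ m, (g.appLE U V e).hom.IsStandardSmoothOfRelativeDimension m := by
    algebraize [(g.appLE U V e).hom]
    obtain ⟨ι, τ, _, _, ⟨P⟩⟩ := Algebra.IsStandardSmooth.out (R := Γ(Y, U)) (S := Γ(X, V)) (self := hs)
    exact ⟨P.dimension, ι, τ, _, ‹_›, ⟨P, rfl⟩⟩
  refine ⟨U, hU, V, hV, hxV, e, ?_⟩
  haveI : IsAffine (V : Scheme.{u}) := hV
  haveI : IsAffine (U : Scheme.{u}) := hU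
  haveI : SmoothOfRelativeDimension m (g.resLE U V e) := by
    rw [HasRingHomProperty.iff_of_isAffine (P := @SmoothOfRelativeDimension m)]
    refine RingHom.locally_of RingHom.isStandardSmoothOfRelativeDimension_respectsIso _ ?_
    exact (RingHom.isStandardSmoothOfRelativeDimension_respectsIso.arrow_mk_iso_iff (arrowResLEAppIso g U V e)).2 hm
  haveI hV' : SmoothOfRelativeDimension m (V.ι ≫ g) := by
    rw [← Scheme.Hom.resLE_comp_ι g e]
    simpa using (inferInstance : SmoothOfRelativeDimension (m + 0) (g.resLE U V e ≫ U.ι))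
  let y := g x
  letI := GenusOneX.fibreOver g y
  let Z := g.fiber y
  haveI : IsProper (Z ↘ Spec (CommRingCat.of (Y.residueField y))) :=
    inferInstanceAs (IsProper (pullback.snd g (Y.fromSpecResidueField y)))
  haveI : Smooth (Z ↘ Spec (CommRingCat.of (Y.residueField y))) :=
    MorphismProperty.pullback_snd (P := @Smooth) g (Y.fromSpecResidueField y) inferInstance
  haveI : IsIntegral Z := hint y
  let j := (g.fiberι y ⁻¹ᵁ V).ι
  haveI : Nonempty ((g.fiberι y ⁻¹ᵁ V : Z.Opens) : Scheme.{u}) := by
    obtain ⟨w, hw⟩ : x ∈ Set.range (g.fiberι y) := by rw [Scheme.Hom.range_fiberι]; rfl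
    exact ⟨⟨w, show g.fiberι y w ∈ V by rw [hw]; exact hxV⟩⟩
  haveI := smoothOfRelativeDimension_isStableUnderBaseChange m
  haveI : SmoothOfRelativeDimension m (j ≫ (Z ↘ Spec (CommRingCat.of (Y.residueField y)))) :=
    MorphismProperty.of_isPullback (P := @SmoothOfRelativeDimension m)
      ((isPullback_morphismRestrict (g.fiberι y) V).paste_vert (IsPullback.of_hasPullback g (Y.fromSpecResidueField y)))
      hV'
  have h1 := SmoothCrit.eq_dim (k := Y.residueField y) (Z ↘ Spec (CommRingCat.of (Y.residueField y))) j m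
  rw [hdim y] at h1
  obtain rfl : 1 = m := by exact_mod_cast h1
  exact hm


attribute [local instance] GeomField.globalAlgebra

/-- A smooth proper curve with more first cohomology than functions has ample differentials. -/
theorem isAmple_omega (k : Type u) [Field k] (Z : Scheme.{u}) [Z.Over (Spec (CommRingCat.of k))] [IsIntegral Z]
    [IsProper (Z ↘ Spec (CommRingCat.of k))] [Smooth (Z ↘ Spec (CommRingCat.of k))]
    (hdim : topologicalKrullDim Z = 1)
    (hg : Module.finrank k (Coh.HH Z (Coh.structureModule Z) 0) < Curv2.genus k Z) :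
    CohB1.IsAmple (Omega.sheaf (Z ↘ Spec (CommRingCat.of k))) := by
  let f := Z ↘ Spec (CommRingCat.of k)
  haveI : GeometricallyReduced f := (S1628.result k Z).1
  haveI := GeomField.globalFunctions_separable k Z
  haveI := GeomField.finite_globalFunctions k Z
  letI : Field Γ(Z, ⊤) := (GeomField.isField_globalFunctions k Z).toField
  haveI : Algebra.FormallyEtale k Γ(Z, ⊤) := Algebra.FormallyEtale.of_isSeparable k Γ(Z, ⊤)
  haveI : Algebra.Etale k Γ(Z, ⊤) := ⟨inferInstance, Algebra.FinitePresentation.of_finiteType.1 inferInstance⟩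
  letI : Z.Over (Spec (CommRingCat.of Γ(Z, ⊤))) := ⟨Z.toSpecΓ⟩
  have hc : (Z ↘ Spec (CommRingCat.of Γ(Z, ⊤))) ≫ Spec.map (CommRingCat.ofHom (algebraMap k Γ(Z, ⊤))) = f := by
    show Z.toSpecΓ ≫ Spec.map ((Scheme.ΓSpecIso (CommRingCat.of k)).inv ≫ f.appTop) = f
    rw [Spec.map_comp, ← Scheme.toSpecΓ_naturality_assoc, ← SpecMap_ΓSpecIso_hom, ← Spec.map_comp,
      Iso.inv_hom_id, Spec.map_id, Category.comp_id]
  refine isAmple_omega_of_field k Γ(Z, ⊤) hc ?_ hdim hg
  rw [GeomField.finrank_HH_zero Γ(Z, ⊤) Z]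
  have hid : GeomField.globalAlgebra Γ(Z, ⊤) Z = Algebra.id Γ(Z, ⊤) := by
    refine Algebra.algebra_ext _ _ fun c => ?_
    show Z.toSpecΓ.appTop ((Scheme.ΓSpecIso Γ(Z, ⊤)).inv c) = c
    rw [Scheme.toSpecΓ_appTop]
    exact Iso.inv_hom_id_apply (Scheme.ΓSpecIso Γ(Z, ⊤)) c
  rw [hid]
  exact Module.finrank_self _

end Groth.Agent.RelCurveCoh
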