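import Groth.Agent.CohPullLib.NbhdRank
import Groth.Agent.CohPullLib.FibreVanish
import Groth.Agent.CohPullLib.BC0
import Groth.Agent.CohPullLib.PushStratum
import Groth.Agent.GenusOneX.PosGenus
import Groth.Agent.DerBC7.SplitPush
import Groth.Agent.CurveBC.Main
import Groth.Agent.S9370
import Groth.Agent.S9386

/-!
# Cohomology of families of curves over an arbitrary base
-/

noncomputable section

set_option autoImplicit false
set_option linter.style.haveILetI false
set_option linter.unusedSectionVars false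
set_option backward.isDefEq.respectTransparency false
set_option backward.isDefEq.respectTransparency.types false
set_option maxRecDepth 4000
set_option maxHeartbeats 1000000

universe u

open CategoryTheory CategoryTheory.Limits AlgebraicGeometry TopologicalSpace Opposite

namespace Groth.Agent.RelCurveCoh

open Groth.Agent.QCoh Groth.Agent.FlatCxLib Groth.Agent.CohPullLib
open scoped Groth.Agent.H23.PicMul

variable {X S : Scheme.{u}} {f : X ⟶ S} [IsProper f] [LocallyOfFinitePresentation f] {F : X.Modules}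

/-- Exchange in degree zero gives the rank of the direct image. -/
theorem isFinLocFreeOfRank_push (hF : Coh.IsQCoh F) {r : ℕ} (h : ∀ s, ExchAt f F 0 s)
    (hr : ∀ s, CohIII.fiberRank f F 0 s = r) :
    FlatMod.IsFinLocFreeOfRank r ((Scheme.Modules.pushforward f).obj F) := by
  refine isFinLocFreeOfRank_of_sections (isQCoh_pushforward f hF) fun t => ?_
  obtain ⟨V, hV, P, ht, hP, hepi⟩ := h t
  obtain ⟨h1, h2, h3⟩ := sections_push_of_preservesEpi hF hP hepi
  refine ⟨V, hV, ht, h1, h2, fun Q => ?_⟩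
  obtain ⟨v, hv, rfl⟩ : ∃ (v : S) (hv : v ∈ V), hV.primeIdealOf ⟨v, hv⟩ = Q :=
    ⟨hV.fromSpec Q, by rw [← SetLike.mem_coe, ← hV.range_fromSpec]; exact Set.mem_range_self _,
      hV.fromSpec.isOpenEmbedding.injective (hV.fromSpec_primeIdealOf _)⟩
  rw [h3 v hv]
  exact hr v

/-- Exchange in two neighbouring degrees gives the rank of the higher direct image. -/
theorem isFinLocFreeOfRank_Rpush [HasInjectiveResolutions X.Modules] (hF : Coh.IsQCoh F) (hfp : CohB1.IsFP F)
    (hfl : FlatMod.IsFlatOver f F) {p r : ℕ} (h₁ : ∀ s, ExchAt f F p s)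
    (h₂ : ∀ s p', p' + 1 = p → ExchAt f F p' s) (hr : ∀ s, CohIII.fiberRank f F p s = r) :
    FlatMod.IsFinLocFreeOfRank r ((Coh.Rpush f p).obj F) := by
  refine isFinLocFreeOfRank_of_sections (isQCoh_Rpush f hF p) fun t => ?_
  obtain ⟨V, hV, P, ht, -, hP, ha, hb, -⟩ :=
    exists_isFinLocFree_nhd hF hfp hfl (show t ∈ (⊤ : S.Opens) from trivial) (h₁ t) (h₂ t)
  obtain ⟨hflat, hfp'⟩ := flat_fp_sections hF hP ha hb
  refine ⟨V, hV, ht, hflat, hfp', fun Q => ?_⟩
  obtain ⟨v, hv, rfl⟩ : ∃ (v : S) (hv : v ∈ V), hV.primeIdealOf ⟨v, hv⟩ = Q :=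
    ⟨hV.fromSpec Q, by rw [← SetLike.mem_coe, ← hV.range_fromSpec]; exact Set.mem_range_self _,
      hV.fromSpec.isOpenEmbedding.injective (hV.fromSpec_primeIdealOf _)⟩
  let q : ℤ := -(p : ℤ)
  have hq : q - 1 + 1 = q := by lia
  haveI : Module.Flat Γ(S, V) (Coker P q (q - 1)) := ExchAt.flat_coker hP ha
  obtain ⟨l⟩ := hP.nonempty_sections hF p
  rw [← hr v, hP.fiberRank_eq hF p hv, dRank_eq_fibreRank P hP.flat (show q + 1 = q + 1 from rfl) hq]
  exact fibreRank_congr _ _ (l.trans (hom'Equiv (P := P) (show q + 1 = q + 1 from rfl) hq).symm) _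

omit [IsProper f] [LocallyOfFinitePresentation f] in
theorem fiberRank_structure (f : X ⟶ S) (p : ℕ) (s : S) :
    CohIII.fiberRank f (Coh.structureModule X) p s =
      Models.hRank (S.residueField s) (f.fiber s) (f.fiberToSpecResidueField s) (Coh.structureModule (f.fiber s)) p := by
  obtain ⟨u⟩ := PicClLib.nonempty_pullback_structureModule (f.fiberι s)
  letI : (f.fiber s).Over (Spec (CommRingCat.of (S.residueField s))) := ⟨f.fiberToSpecResidueField s⟩
  exact (CurveCohLib.hhEquiv (k := S.residueField s) u p).finrank_eq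

omit [IsProper f] [LocallyOfFinitePresentation f] in
theorem isQCoh_fp_structure : Coh.IsQCoh (Coh.structureModule X) ∧ CohB1.IsFP (Coh.structureModule X) :=
  ⟨ProjUPX.isQCoh_of_isInvertible InvX.isInvertible_structureModule,
    QCoh.isFP_of_isFinLocFree fun x =>
      let ⟨U, hx, e⟩ := InvEnd.isFinLocFreeOfRank_one InvX.isInvertible_structureModule x
      ⟨U, 1, hx, e⟩⟩

/-- Constant functions on the fibres: exchange in degree zero for the structure sheaf. -/
theorem exchAt_zero_structure [Flat f] {s : S}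
    (h0 : CohIII.fiberRank f (Coh.structureModule X) 0 s = 1) : ExchAt f (Coh.structureModule X) 0 s := by
  obtain ⟨hq, hfp⟩ := isQCoh_fp_structure (X := X)
  letI := GenusOneX.fibreOver f s
  let n : Γ(Coh.structureModule X, ⊤) := (1 : Γ(X, ⊤))
  let G := (Scheme.Modules.pullback (f.fiberι s)).obj (Coh.structureModule X)
  have hfr : InvX.IsFrame (InvX.pullElt (f.fiberι s) n) := InvX.isFrame_pullElt _ (InvX.isFrame_one ⊤)
  have hne : Nonempty (f.fiber s) := by
    by_contra hemp
    rw [not_nonempty_iff] at hemp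
    haveI : Subsingleton (Coh.HH (f.fiber s) G 0) := by
      haveI : Subsingleton Γ(G, ⊤) := by
        refine ⟨fun a b => TopCat.Presheaf.section_ext ⟨G.presheaf, G.isSheaf⟩ _ _ _ fun x _ => (hemp.false x).elim⟩
      exact @Equiv.subsingleton _ _ (Sheaf.H.equiv₀ (Coh.toAb G) isTerminalTop).toEquiv (‹Subsingleton Γ(G, ⊤)›)
    exact one_ne_zero (h0.symm.trans Module.finrank_zero_of_subsingleton)
  have hn : InvX.pullElt (f.fiberι s) n ≠ 0 := fun hz => by
    obtain ⟨w⟩ := hne
    haveI : Nontrivial Γ(f.fiber s, f.fiberι s ⁻¹ᵁ ⊤) :=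
      ((f.fiber s).presheaf.germ (f.fiberι s ⁻¹ᵁ ⊤) w trivial).hom.domain_nontrivial
    have h := (hfr _ le_rfl).1 (a₁ := 1) (a₂ := 0)
    simp only [hz, map_zero, smul_zero] at h
    exact one_ne_zero (h trivial)
  refine GenusOneX.exchAt_zero_of_surjective hq hfp (DerBC7.isFlatOver_structureModule f) fun y => ?_
  obtain ⟨c, hc⟩ := GenusOneX.exists_scalar_of_rank_one (k := S.residueField s) G (InvX.pullElt (f.fiberι s) n) hn h0 y
  refine ⟨(Scheme.ΓSpecIso (S.residueField s)).inv c •
    QCoh.pullSec (S.fromSpecResidueField s) ((Scheme.Modules.pushforward f).obj (Coh.structureModule X)) (V := ⊤) (W := ⊤) le_top n, ?_⟩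
  rw [Scheme.Modules.Hom.app_smul, bc0_app_pullSec (f.fiber_fac s) (Coh.structureModule X) le_top]
  refine Eq.trans ?_ hc
  refine congrArg (_ • ·) ?_
  exact ConcreteCategory.congr_hom (G.presheaf.map_id _) _

/-- Constant functions on a scheme over a field from the dimension of `H⁰`. -/
theorem isIso_appTop_of_h0 {k : Type u} [Field k] {Y : Scheme.{u}} [Y.Over (Spec (CommRingCat.of k))]
    (h0 : Module.finrank k (Coh.HH Y (Coh.structureModule Y) 0) = 1) :
    IsIso (Y ↘ Spec (CommRingCat.of k)).appTop := by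
  let p := Y ↘ Spec (CommRingCat.of k)
  have hone : (1 : Γ(Y, ⊤)) ≠ 0 := fun h => by
    haveI : Subsingleton Γ(Y, ⊤) := subsingleton_of_zero_eq_one h.symm
    haveI : Subsingleton (Coh.HH Y (Coh.structureModule Y) 0) :=
      @Equiv.subsingleton _ _ (Sheaf.H.equiv₀ (Coh.toAb (Coh.structureModule Y)) isTerminalTop).toEquiv
        (‹Subsingleton Γ(Y, ⊤)›)
    exact one_ne_zero (h0.symm.trans Module.finrank_zero_of_subsingleton)
  have key : Function.Bijective fun c : k => p.appTop ((Scheme.ΓSpecIso (CommRingCat.of k)).inv c) := by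
    refine ⟨?_, fun y => ?_⟩
    · haveI : Nontrivial Γ(Y, ⊤) := nontrivial_of_ne _ _ hone
      exact ((Scheme.ΓSpecIso (CommRingCat.of k)).inv ≫ p.appTop).hom.injective
    · obtain ⟨c, hc⟩ := GenusOneX.exists_scalar_of_rank_one (k := k) (Coh.structureModule Y)
        (show Γ(Coh.structureModule Y, ⊤) from (1 : Γ(Y, ⊤))) hone h0 y
      exact ⟨c, Eq.trans (mul_one _).symm hc⟩
  rw [ConcreteCategory.isIso_iff_bijective]
  exact (Function.Bijective.of_comp_iff _
    (ConcreteCategory.bijective_of_isIso (Scheme.ΓSpecIso (CommRingCat.of k)).inv)).mp key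

omit [IsProper f] [LocallyOfFinitePresentation f] in
/-- The differentials commute with base change. -/
theorem nonempty_omega_baseChange [QuasiSeparated f] {X' S' : Scheme.{u}} {f' : X' ⟶ S'} {g : S' ⟶ S} {g' : X' ⟶ X}
    (hsq : IsPullback g' f' f g) :
    Nonempty ((Scheme.Modules.pullback g').obj (Omega.sheaf f) ≅ Omega.sheaf f') := by
  haveI : QuasiSeparated f' := MorphismProperty.of_isPullback hsq inferInstance
  obtain ⟨c, hc, -⟩ := S9370.result f f' g' g hsq.w.symm _ _ (OmegaUniv.isUniversal_dOmega _) _ _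
    (OmegaUniv.isUniversal_dOmega _)
  haveI := S9386.result _ _ _ _ hsq _ _ (OmegaUniv.isUniversal_dOmega f) _ _ (OmegaUniv.isUniversal_dOmega f') c hc
  exact ⟨asIso c⟩

omit [IsProper f] [LocallyOfFinitePresentation f] in
theorem nonempty_pullback_tensorPow {Y : Scheme.{u}} (g : Y ⟶ X) (L : X.Modules) :
    ∀ n : ℕ, Nonempty ((Scheme.Modules.pullback g).obj (CohB1.tensorPow L n) ≅
      CohB1.tensorPow ((Scheme.Modules.pullback g).obj L) n)
  | 0 => PicClLib.nonempty_pullback_structureModule g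
  | n + 1 => by
    obtain ⟨e⟩ := nonempty_pullback_tensorPow g L n
    refine H23.PicMul.cl_eq_iff.1 ?_
    show PicF.pullCl g (PicF.cl (CohB1.tensorMod (CohB1.tensorPow L n) L)) =
      PicF.cl (CohB1.tensorMod (CohB1.tensorPow ((Scheme.Modules.pullback g).obj L) n) ((Scheme.Modules.pullback g).obj L))
    rw [H23.PicMul.cl_tensor, H23.PicMul.pullCl_mul, H23.PicMul.cl_tensor]
    exact congrArg (· * _) (H23.PicMul.cl_eq_iff.2 ⟨e⟩)

end Groth.Agent.RelCurveCoh
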