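import Groth.Agent.RelCurveCoh.Basic
import Groth.Agent.SmoothCrit.Omega
import Groth.Agent.IntNum.CurveAmple
import Groth.Agent.CurveCohLib.Nonspecial
import Groth.Agent.GenusOneX.Abel

/-!
# Families of smooth curves over an arbitrary base
-/

noncomputable section

set_option autoImplicit false
set_option linter.style.haveILetI false
set_option linter.unusedSectionVars false
set_option backward.isDefEq.respectTransparency false
set_option backward.isDefEq.respectTransparency.types false
set_option maxRecDepth 4000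
set_option maxHeartbeats 1000000

universe u

open CategoryTheory CategoryTheory.Limits AlgebraicGeometry TopologicalSpace Opposite

namespace Groth.Agent.RelCurveCoh

open Groth.Agent.CohPullLib
open scoped Groth.Agent.H23.PicMul

/-- The differentials of a smooth morphism of relative dimension one. -/
theorem isInvertible_omega {C S : Scheme.{u}} (f : C ⟶ S) [QuasiSeparated f] [SmoothOfRelativeDimension 1 f] :
    PicF.IsInvertible (Omega.sheaf f) := by
  haveI : Smooth f := SmoothOfRelativeDimension.smooth 1 f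
  refine CurveDuality.isInvertible_of_rank_one fun x => ?_
  obtain ⟨U, m, hxU, ⟨e⟩⟩ := S5018.result f ((S1488.result f).1 inferInstance).2 _ _ (OmegaUniv.isUniversal_dOmega f) x
  obtain rfl : 1 = m := (SmoothCrit.free_stalk_of_smooth f 1 x).2.2.symm.trans
    (SmoothCrit.free_stalk_of_restrict f e hxU).2.2
  exact ⟨U, hxU, ⟨e⟩⟩

variable {C S : Scheme.{u}} (f : C ⟶ S) [IsProper f] [Smooth f] [GeometricallyConnected f]
  (hdim : ∀ s : S, topologicalKrullDim ↥(f.fiber s) = 1)

attribute [local instance] GenusOneX.fibreOver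

omit [GeometricallyConnected f] in
theorem fibre_smooth' (s : S) : Smooth (f.fiber s ↘ Spec (CommRingCat.of (S.residueField s))) :=
  MorphismProperty.pullback_snd (P := @Smooth) f (S.fromSpecResidueField s) inferInstance

theorem fibre_integral (s : S) : IsIntegral (f.fiber s) := by
  haveI : IsProper (f.fiber s ↘ Spec (CommRingCat.of (S.residueField s))) :=
    inferInstanceAs (IsProper (pullback.snd f (S.fromSpecResidueField s)))
  haveI : GeometricallyConnected (f.fiber s ↘ Spec (CommRingCat.of (S.residueField s))) :=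
    inferInstanceAs (GeometricallyConnected (pullback.snd f (S.fromSpecResidueField s)))
  haveI := fibre_smooth' f s
  exact CurveStable.isIntegral_of_geometricallyConnected (k := S.residueField s)

theorem fiberRank_zero_structure (s : S) : CohIII.fiberRank f (Coh.structureModule C) 0 s = 1 := by
  haveI : IsProper (f.fiber s ↘ Spec (CommRingCat.of (S.residueField s))) :=
    inferInstanceAs (IsProper (pullback.snd f (S.fromSpecResidueField s)))
  haveI : GeometricallyConnected (f.fiber s ↘ Spec (CommRingCat.of (S.residueField s))) :=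
    inferInstanceAs (GeometricallyConnected (pullback.snd f (S.fromSpecResidueField s)))
  haveI := fibre_smooth' f s
  rw [fiberRank_structure]
  exact CurveBC.finrank_h0_of_geometricallyConnected (S.residueField s) (f.fiber s)

omit [Smooth f] [GeometricallyConnected f] in
include hdim in
theorem vanAt_of_two_le [Flat f] [LocallyOfFinitePresentation f] {F : C.Modules} (hF : Coh.IsQCoh F) (hfp : CohB1.IsFP F)
    (hfl : FlatMod.IsFlatOver f F) (s : S) {p : ℕ} (hp : 2 ≤ p) : VanAt f F p s :=
  vanAt_of_subsingleton hF hfp hfl p (subsingleton_fiberH_of_dim f hF hfp s (d := 1) (by rw [hdim s]; rfl) hp)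

include hdim in
/-- Powers of the differentials of degree at least two on the fibres. -/
theorem tensorPow_omega_fibre {g : ℕ} (hg : 2 ≤ g) {n : ℕ} (hn : 2 ≤ n) (s : S)
    (hgen : Curv2.genus (S.residueField s) (f.fiber s) = g) :
    CohIII.fiberRank f (CohB1.tensorPow (Omega.sheaf f) n) 0 s = (2 * n - 1) * (g - 1) ∧
      Subsingleton (CohIII.fiberH f (CohB1.tensorPow (Omega.sheaf f) n) s 1) := by
  let k := S.residueField s
  let Z := f.fiber s
  haveI : IsProper (Z ↘ Spec (CommRingCat.of k)) :=
    inferInstanceAs (IsProper (pullback.snd f (S.fromSpecResidueField s)))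
  haveI : GeometricallyConnected (Z ↘ Spec (CommRingCat.of k)) :=
    inferInstanceAs (GeometricallyConnected (pullback.snd f (S.fromSpecResidueField s)))
  haveI := fibre_smooth' f s
  haveI := fibre_integral f s
  haveI := CurveCohLib.isNoetherian_of_proper (k := k) (X := Z)
  have h0 := CurveBC.finrank_h0_of_geometricallyConnected k Z
  obtain ⟨a⟩ := nonempty_pullback_tensorPow (f.fiberι s) (Omega.sheaf f) n
  obtain ⟨b⟩ := nonempty_omega_baseChange (f := f) (f' := Z ↘ Spec (CommRingCat.of k))
    (IsPullback.of_hasPullback f (S.fromSpecResidueField s))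
  obtain ⟨b'⟩ : Nonempty (CohB1.tensorPow ((Scheme.Modules.pullback (f.fiberι s)).obj (Omega.sheaf f)) n ≅
      CohB1.tensorPow (Omega.sheaf (Z ↘ Spec (CommRingCat.of k))) n) := by
    refine H23.PicMul.cl_eq_iff.1 ?_
    rw [H23.PicMul.cl_tensorPow, H23.PicMul.cl_tensorPow]
    exact congrArg (· ^ n) (H23.PicMul.cl_eq_iff.2 ⟨b⟩)
  let M := CohB1.tensorPow (Omega.sheaf (Z ↘ Spec (CommRingCat.of k))) n
  have hΩ := CurveBC.isInvertible_omega k Z (hdim s) h0
  have hM : PicF.IsInvertible M := InvX.isInvertible_tensorPow hΩ n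
  have hd : Curv2.deg k Z M 1 = n * (2 * (g : ℤ) - 2) := by
    rw [IntNum.deg_tensorPow k (hdim s) hΩ, (CurveBC.canonical_invariants k Z (hdim s) h0).2, hgen]
  have hχ : Curv2.euler k Z M = ((2 * n - 1) * (g - 1) : ℕ) := by
    have h1 : Curv2.deg k Z M 1 = Curv2.euler k Z M - Curv2.euler k Z (Coh.structureModule Z) := by
      simp [Curv2.deg]
    rw [hd, CurveCohLib.Nonspecial.euler_structure k (hdim s) h0, hgen] at h1
    push_cast [Nat.cast_sub (show 1 ≤ g by omega), Nat.cast_sub (show 1 ≤ 2 * n by omega)]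
    linear_combination -h1
  have hMc := CurveDeg.isCoh_of_isInvertible hM
  have h1 : Subsingleton (Coh.HH Z M 1) := CurveCohLib.Nonspecial.h1_of_euler k (hdim s) hMc
    (fun φ hφ => CurveCohLib.Nonspecial.section_of_sub k hMc hM (𝟙 M) φ hφ) (by
      rw [hgen, hχ]
      have : 3 * (g - 1) ≤ (2 * n - 1) * (g - 1) := Nat.mul_le_mul_right _ (by omega)
      omega)
  let e : CohIII.fiberMod f (CohB1.tensorPow (Omega.sheaf f) n) s ≅ M := a ≪≫ b'
  have hr0 : Module.finrank k (Coh.HH Z M 0) = (2 * n - 1) * (g - 1) := by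
    have h : Curv2.euler k Z M = (Module.finrank k (Coh.HH Z M 0) : ℤ) - Module.finrank k (Coh.HH Z M 1) :=
      CurveRR.euler_eq_h0_sub_h1 k (hdim s).le hMc.1
    rw [hχ, Module.finrank_zero_of_subsingleton (R := k) (M := Coh.HH Z M 1)] at h
    omega
  exact ⟨(CurveCohLib.hhEquiv (k := k) e 0).finrank_eq.trans hr0,
    (CurveCohLib.hhEquiv (k := k) e 1).toEquiv.subsingleton⟩

omit [GeometricallyConnected f] in
include hdim in
theorem tensorPow_omega_sheaf [GeometricallyConnected f] (n : ℕ) :
    Coh.IsQCoh (CohB1.tensorPow (Omega.sheaf f) n) ∧ CohB1.IsFP (CohB1.tensorPow (Omega.sheaf f) n) ∧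
      FlatMod.IsFlatOver f (CohB1.tensorPow (Omega.sheaf f) n) := by
  haveI := GenusOneX.smoothOfRelativeDimension_of_fibres f hdim
  have hL := InvX.isInvertible_tensorPow (isInvertible_omega f) n
  exact ⟨ProjUPX.isQCoh_of_isInvertible hL, QCoh.isFP_of_isFinLocFree fun x =>
      let ⟨U, hx, e⟩ := InvEnd.isFinLocFreeOfRank_one hL x
      ⟨U, 1, hx, e⟩, H23.Seesaw.isFlatOver_of_isInvertible f hL⟩

include hdim in
theorem exchAt_tensorPow_omega {g : ℕ} (hg : 2 ≤ g) {n : ℕ} (hn : 2 ≤ n)
    (hgen : ∀ s, Curv2.genus (S.residueField s) (f.fiber s) = g) (s : S) :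
    VanAt f (CohB1.tensorPow (Omega.sheaf f) n) 1 s ∧ ExchAt f (CohB1.tensorPow (Omega.sheaf f) n) 0 s := by
  obtain ⟨hq, hfp, hfl⟩ := tensorPow_omega_sheaf f hdim n
  have h := vanAt_of_subsingleton hq hfp hfl 1 (tensorPow_omega_fibre f hdim hg hn s (hgen s)).2
  exact ⟨h, h.exchAt_pred⟩

end Groth.Agent.RelCurveCoh
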